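import Mathlib
import Cfsg.Agent.Helper71.BSW.Defs

/-!
# (B10) for helper71's S3282 farm (helper47): `N(C(y)) = C(y)<u> = N(X)` for `1 ≠ X ≤ C(y)`
-/

set_option autoImplicit false

namespace Cfsg.Agent.Helper47.BSW

open Cfsg.Agent.Helper71.BSW

/-- in a finite group, `g H g⁻¹ ⊆ H` puts `g` in the normalizer -/
theorem B10_mem_normalizer_of_conj_mem {G : Type*} [Group G] [Finite G] (H : Subgroup G) (g : G)
    (h : ∀ x ∈ H, g * x * g⁻¹ ∈ H) : g ∈ Subgroup.normalizer (H : Set G) := by
  have hle : H.map (MulAut.conj g).toMonoidHom ≤ H := by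
    rintro _ ⟨x, hx, rfl⟩
    exact h x hx
  have hcard : Nat.card (H.map (MulAut.conj g).toMonoidHom) = Nat.card H :=
    Subgroup.card_map_of_injective (MulAut.conj g).injective
  have heq : H.map (MulAut.conj g).toMonoidHom = H :=
    Subgroup.eq_of_le_of_card_ge hle (le_of_eq hcard.symm)
  rw [Subgroup.mem_normalizer_iff]
  intro x
  constructor
  · exact h x
  · intro hx
    rw [← heq] at hx
    obtain ⟨x', hx', he⟩ := hx
    have : x' = x := (MulAut.conj g).injective he
    rw [← this]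
    exact hx'

theorem b_normalizer_D {G : Type*} [Group G] [Finite G] {t s : G} {K : Subgroup G} {q d : ℕ}
    (c : Ctx t s K q d)
    (h_arith : Odd q ∧ Odd d ∧ q.Coprime (2 * Nat.card K) ∧ d.Coprime (2 * Nat.card K) ∧ q.Coprime d ∧
      q ^ 2 = 4 * Nat.card K * d + 1 ∧ 3 ≤ d ∧ 7 ≤ q)
    (h_card_cent_D : ∀ y : G, y ≠ 1 → (orderOf y).Coprime (2 * Nat.card K * q) →
    Nat.card (Subgroup.centralizer ({y} : Set G)) = d ∧
      ∃ u : G, orderOf u = 2 ∧ ∀ v ∈ Subgroup.centralizer ({y} : Set G), u * v * u⁻¹ = v⁻¹)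
    (h_cent_D_eq : ∀ y v : G, y ≠ 1 → (orderOf y).Coprime (2 * Nat.card K * q) →
    v ∈ Subgroup.centralizer ({y} : Set G) → v ≠ 1 →
    (orderOf v).Coprime (2 * Nat.card K * q) ∧
      Subgroup.centralizer ({v} : Set G) = Subgroup.centralizer ({y} : Set G))
    (h_card_normalizer_D : ∀ y : G, y ≠ 1 → (orderOf y).Coprime (2 * Nat.card K * q) →
    Nat.card (Subgroup.normalizer ((Subgroup.centralizer ({y} : Set G) : Subgroup G) : Set G)) =
      2 * d)
    :
    ∀ y u : G, y ≠ 1 → (orderOf y).Coprime (2 * Nat.card K * q) → orderOf u = 2 →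
    (∀ v ∈ Subgroup.centralizer ({y} : Set G), u * v * u⁻¹ = v⁻¹) →
    u ∉ Subgroup.centralizer ({y} : Set G) ∧
    Subgroup.normalizer ((Subgroup.centralizer ({y} : Set G) : Subgroup G) : Set G) =
      Subgroup.centralizer ({y} : Set G) ⊔ Subgroup.zpowers u ∧
    ∀ X : Subgroup G, X ≤ Subgroup.centralizer ({y} : Set G) → X ≠ ⊥ →
      Subgroup.normalizer (X : Set G) =
        Subgroup.normalizer ((Subgroup.centralizer ({y} : Set G) : Subgroup G) : Set G) := by
  intro y u hy hco hu hinv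
  obtain ⟨hdodd, hd3⟩ : Odd d ∧ 3 ≤ d := ⟨h_arith.2.1, h_arith.2.2.2.2.2.2.1⟩
  set D : Subgroup G := Subgroup.centralizer ({y} : Set G) with hD
  have hcardD : Nat.card D = d := (h_card_cent_D y hy hco).1
  have huu : u * u = 1 := by
    have := pow_orderOf_eq_one u
    rwa [hu, pow_two] at this
  have huinv : u⁻¹ = u := inv_eq_of_mul_eq_one_left huu
  -- `u ∉ D`
  have huD : u ∉ D := by
    intro hmem
    have h1 : orderOf (⟨u, hmem⟩ : D) ∣ Nat.card D := orderOf_dvd_natCard _
    rw [Subgroup.orderOf_mk, hu, hcardD] at h1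
    exact (Nat.not_even_iff_odd.mpr hdodd) (even_iff_two_dvd.mpr h1)
  -- `D` is abelian
  have hDab : ∀ a ∈ D, ∀ b ∈ D, a * b = b * a := by
    intro a ha b hb
    have h1 := hinv (a * b) (D.mul_mem ha hb)
    have h2 := hinv a ha
    have h3 := hinv b hb
    have h4 : u * (a * b) * u⁻¹ = (u * a * u⁻¹) * (u * b * u⁻¹) := by group
    rw [h4, h2, h3, mul_inv_rev] at h1
    have h5 : (a * b)⁻¹ = (b * a)⁻¹ := by rw [mul_inv_rev, mul_inv_rev]; exact h1.symm
    exact inv_injective h5
  -- `u` normalizes `D`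
  have huN : u ∈ Subgroup.normalizer (D : Set G) :=
    B10_mem_normalizer_of_conj_mem D u (fun x hx => by rw [hinv x hx]; exact D.inv_mem hx)
  have hM_le : D ⊔ Subgroup.zpowers u ≤ Subgroup.normalizer (D : Set G) :=
    sup_le Subgroup.le_normalizer ((Subgroup.zpowers_le).mpr huN)
  have hcardN : Nat.card (Subgroup.normalizer (D : Set G)) = 2 * d := h_card_normalizer_D y hy hco
  have hNeq : Subgroup.normalizer (D : Set G) = D ⊔ Subgroup.zpowers u := by
    symm
    apply Subgroup.eq_of_le_of_card_ge hM_le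
    rw [hcardN]
    have hdvd : Nat.card D ∣ Nat.card (D ⊔ Subgroup.zpowers u : Subgroup G) :=
      Subgroup.card_dvd_of_le le_sup_left
    rw [hcardD] at hdvd
    obtain ⟨m, hm⟩ := hdvd
    have hne : ¬ Nat.card (D ⊔ Subgroup.zpowers u : Subgroup G) ≤ Nat.card D := by
      intro hle
      have heq : D = D ⊔ Subgroup.zpowers u := Subgroup.eq_of_le_of_card_ge le_sup_left hle
      apply huD
      rw [heq]
      exact Subgroup.mem_sup_right (Subgroup.mem_zpowers u)
    rw [hcardD, hm] at hne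
    rw [hm]
    have hm2 : 2 ≤ m := by
      by_contra hlt
      apply hne
      have : m ≤ 1 := by omega
      calc d * m ≤ d * 1 := Nat.mul_le_mul_left d this
        _ = d := mul_one d
    calc 2 * d = d * 2 := mul_comm 2 d
      _ ≤ d * m := Nat.mul_le_mul_left d hm2
  refine ⟨huD, hNeq, ?_⟩
  intro X hXD hXne
  apply le_antisymm
  · -- `N(X) ≤ N(D)`
    intro g hg
    obtain ⟨v, hvX, hv1⟩ : ∃ v ∈ X, v ≠ 1 := by
      by_contra hcon
      push Not at hcon
      apply hXne
      rw [Subgroup.eq_bot_iff_forall]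
      exact hcon
    have hvD : v ∈ D := hXD hvX
    obtain ⟨hvco, hCv⟩ := h_cent_D_eq y v hy hco hvD hv1
    have hgv : g * v * g⁻¹ ∈ X := (Subgroup.mem_normalizer_iff.mp hg v).mp hvX
    have hgv1 : g * v * g⁻¹ ≠ 1 := by
      intro h1
      apply hv1
      have : v = g⁻¹ * (g * v * g⁻¹) * g := by group
      rw [this, h1]; group
    obtain ⟨-, hCgv⟩ := h_cent_D_eq y (g * v * g⁻¹) hy hco (hXD hgv) hgv1
    apply B10_mem_normalizer_of_conj_mem D g
    intro x hx
    rw [hD, ← hCgv, Subgroup.mem_centralizer_singleton_iff]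
    have hxv : x * v = v * x := by
      have : x ∈ Subgroup.centralizer ({v} : Set G) := by rw [hCv]; exact hx
      exact Subgroup.mem_centralizer_singleton_iff.mp this
    calc g * x * g⁻¹ * (g * v * g⁻¹) = g * (x * v) * g⁻¹ := by group
      _ = g * (v * x) * g⁻¹ := by rw [hxv]
      _ = g * v * g⁻¹ * (g * x * g⁻¹) := by group
  · -- `N(D) = D ⊔ <u> ≤ N(X)`
    rw [hNeq]
    apply sup_le
    · intro a ha
      apply B10_mem_normalizer_of_conj_mem X a
      intro x hx
      have : a * x * a⁻¹ = x := by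
        rw [hDab a ha x (hXD hx), mul_assoc, mul_inv_cancel, mul_one]
      rw [this]
      exact hx
    · rw [Subgroup.zpowers_le]
      apply B10_mem_normalizer_of_conj_mem X u
      intro x hx
      rw [hinv x (hXD hx)]
      exact X.inv_mem hx

end Cfsg.Agent.Helper47.BSW
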